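import Cfsg.Agent.H569.K547.Base
import Cfsg.Agent.H473.K547.Alt
import Cfsg.Agent.H867.OctadCount
import Cfsg.Agent.SporadicStructure.SevenTuple
import Cfsg.Agent.S1553
import Cfsg.Agent.S0364

/-!
# S4547: `D3 M24` (helper569), from the octad stabiliser `2⁴:A₈`
-/

set_option autoImplicit false

open scoped Pointwise

namespace Cfsg.Agent.H569.K547

open Cfsg Cfsg.Agent.H821.K547 Subgroup MulAction

theorem mem_iff_of_smul {g : Equiv.Perm GolayPt} {o : Finset GolayPt} (h : g • o = o) (x : GolayPt) :
    g x ∈ o ↔ x ∈ o := by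
  have := Finset.smul_mem_smul_finset_iff (s := o) (b := x) g
  rw [h] at this
  exact this

/-- restriction to an octad -/
def res (o : Finset GolayPt) : stabilizer M24 o →* Equiv.Perm ↥o where
  toFun g := ((g : M24) : Equiv.Perm GolayPt).subtypePerm (fun x => mem_iff_of_smul g.2 x)
  map_one' := by ext x; rfl
  map_mul' := by intro a b; ext x; rfl

theorem range_res {o : Finset GolayPt} (ho : o ∈ octads) : (res o).range = alternatingGroup ↥o := by
  apply SetLike.coe_injective
  rw [← S1553.result o ho]
  ext e
  constructor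
  · rintro ⟨g, rfl⟩
    exact ⟨(g : M24), (g : M24).2, fun x => mem_iff_of_smul g.2 x, rfl⟩
  · rintro ⟨g, hg, h, rfl⟩
    refine ⟨⟨⟨g, hg⟩, ?_⟩, ?_⟩
    · rw [mem_stabilizer_iff]
      apply Finset.eq_of_subset_of_card_le
      · intro x hx
        obtain ⟨y, hy, rfl⟩ := Finset.mem_smul_finset.1 hx
        exact (h y).2 hy
      · rw [Finset.card_smul_finset]
    · rfl

theorem finite_M24 : Finite M24 := Nat.finite_of_card_ne_zero (by rw [S0364.result]; norm_num)

theorem card_of_octad {o : Finset GolayPt} (ho : o ∈ octads) : Fintype.card ↥o = 8 := by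
  rw [Fintype.card_coe]
  exact ho.2

/-- **`D3 M24`** -/
theorem d3_m24 : D3 M24 := by
  have := finite_M24
  have ho := SporadicStructure.SevenTuple.O0_mem
  have h1 := (stabilizer M24 (SporadicStructure.SevenTuple.O0 : Finset GolayPt)).card_mul_index
  rw [H867.OctadCount.card_stabilizer_octad ho, S0364.result] at h1
  have e1 : (res SporadicStructure.SevenTuple.O0).range ≃* alternatingGroup (Fin 8) :=
    (MulEquiv.subgroupCongr (range_res ho)).trans
      (Equiv.altCongrHom (Fintype.equivFinOfCardEq (card_of_octad ho)))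
  refine d3_of_map (M := stabilizer M24 (SporadicStructure.SevenTuple.O0 : Finset GolayPt)) (by omega)
    (e1.toMonoidHom.comp (res _).rangeRestrict) (e1.surjective.comp (res _).rangeRestrict_surjective)
    (Cfsg.Agent.H473.K547.d3_alt le_rfl)

end Cfsg.Agent.H569.K547
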