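import Cfsg.Agent.H821.K547.Defs

/-!
# S4547, tools: `D3` along subgroups of odd index and surjections, in any universes (helper569)
-/

set_option autoImplicit false

namespace Cfsg.Agent.H569.K547

open Cfsg Cfsg.Agent.H821.K547 Subgroup

universe u v

theorem rk_of_surj {P : Type u} {P' : Type v} [Group P] [Group P'] {n : ℕ} (f : P →* P')
    (hf : Function.Surjective f) (h : Rk n P') : Rk n P := by
  obtain ⟨g, hg⟩ := h
  exact ⟨g.comp f, hg.comp hf⟩

theorem d3_of_sylow {G : Type u} [Group G] [Finite G] (Q : Sylow 2 G) (h : Rk 3 Q) : D3 G := fun R =>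
  rk_of_surj (Sylow.equiv R Q).toMonoidHom (Sylow.equiv R Q).surjective h

/-- a subgroup of odd index with a quotient -/
theorem d3_of_map {G : Type u} {Y : Type v} [Group G] [Finite G] [Group Y] {M : Subgroup G} (hM : ¬ 2 ∣ M.index)
    (f : M →* Y) (hf : Function.Surjective f) (h : D3 Y) : D3 G := by
  have h2 : Fact (Nat.Prime 2) := ⟨Nat.prime_two⟩
  have hY : Finite Y := Finite.of_surjective f hf
  let P : Sylow 2 M := default
  have hP : ¬ 2 ∣ ((P : Subgroup M).map M.subtype).index := by
    rw [index_map_subtype]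
    intro hd
    rcases (Nat.prime_two.dvd_mul).1 hd with h1 | h1
    · exact P.not_dvd_index h1
    · exact hM h1
  let Q : Sylow 2 G := (P.isPGroup'.map M.subtype).toSylow hP
  refine d3_of_sylow Q ?_
  have e : (P : Subgroup M) ≃* (Q : Subgroup G) := (P : Subgroup M).equivMapOfInjective M.subtype M.subtype_injective
  refine rk_of_surj e.symm.toMonoidHom e.symm.surjective ?_
  have h3 := h (P.mapSurjective hf)
  exact rk_of_surj (f.subgroupMap (P : Subgroup M)) (f.subgroupMap_surjective _) h3

theorem d3_of_equiv {G : Type u} {Y : Type v} [Group G] [Finite G] [Group Y] (e : G ≃* Y) (h : D3 Y) : D3 G := by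
  refine d3_of_map (M := ⊤) (by rw [index_top]; norm_num) (e.toMonoidHom.comp (⊤ : Subgroup G).subtype) ?_ h
  intro y
  exact ⟨⟨e.symm y, mem_top _⟩, e.apply_symm_apply y⟩

theorem d3_of_surj {G : Type u} {Y : Type v} [Group G] [Finite G] [Group Y] (f : G →* Y)
    (hf : Function.Surjective f) (h : D3 Y) : D3 G := by
  refine d3_of_map (M := ⊤) (by rw [index_top]; norm_num) (f.comp (⊤ : Subgroup G).subtype) ?_ h
  intro y
  obtain ⟨x, rfl⟩ := hf y
  exact ⟨⟨x, mem_top _⟩, rfl⟩

/-- no outer automorphisms -/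
theorem row_of_inner {S : Type u} [Group S] (h : BaseRow S) (hin : ∀ τ : MulAut S, IsInn τ) : Row S :=
  ⟨h, fun τ _ hτ => absurd (hin τ) hτ⟩

end Cfsg.Agent.H569.K547
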