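import Cfsg.Agent.H569.K547.Base
import Cfsg.Agent.H740.K4.M
import Cfsg.Agent.H848.MonsterSetup
import Cfsg.Agent.MonsterU.AmalElts
import Cfsg.Agent.MonsterU.CoFrameF
import Cfsg.Agent.S2085

/-!
# S4547, row `M` (helper569)

`2^{1+24}.Co₁ ≤ M` and `2^{11}:M₂₄ ≤ Co₁` have odd index.
-/

set_option autoImplicit false

namespace Cfsg.Agent.H569.K547

open Cfsg Cfsg.Agent.H821.K547 Subgroup

universe u

theorem finite_co1 : Finite Spor.Co1 :=
  Nat.finite_of_card_ne_zero (by rw [Cfsg.Agent.MonsterU.CoFrameF.card_Co1]; norm_num)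

theorem d3_co1 (h : D3 M24) : D3 Spor.Co1 := by
  have := finite_co1
  refine d3_of_map (M := Cfsg.Agent.MonsterU.CoFrameF.F) ?_ Cfsg.Agent.MonsterU.CoFrameF.toM24
    Cfsg.Agent.MonsterU.CoFrameF.toM24_surjective h
  rw [Cfsg.Agent.MonsterU.CoFrameF.index_F]
  norm_num

theorem d3_monster (h : D3 Spor.Co1) : D3 Spor.Monster := by
  have := Cfsg.Agent.H848.MonsterSetup.finite
  obtain ⟨Q, z, eta, pi, y, τ, hc, -⟩ := Cfsg.Agent.H848.MonsterSetup.exists_setup
  refine d3_of_map (M := centralizer ({z} : Set Spor.Monster)) ?_ pi hc.pi_surj h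
  intro hd
  have h3 := (Subgroup.centralizer ({z} : Set Spor.Monster)).card_mul_index
  rw [Cfsg.Agent.H848.MonsterSetup.card, Cfsg.Agent.MonsterU.AmalElts.card_centralizer hc] at h3
  obtain ⟨k, hk⟩ := hd
  rw [hk] at h3
  omega

/-- outer automorphism group trivial: every automorphism is inner -/
theorem isInn_of_out {S T : Type*} [Group S] [Group T] (e : S ≃* T) (h : Nat.card (Cfsg.Out T) = 1) (τ : MulAut S) :
    IsInn τ := by
  have h0 : (Inn T).index = 1 := h
  rw [Subgroup.index_eq_one] at h0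
  obtain ⟨t, ht⟩ : ((e.symm.trans τ).trans e : MulAut T) ∈ Inn T := h0 ▸ mem_top _
  refine ⟨e.symm t, fun x => ?_⟩
  have h1 := congrArg (fun f : MulAut T => e.symm (f (e x))) ht.symm
  simpa using h1

/-- **S4547, row `M`**, from `D3 M24` -/
theorem row_m_of (h24 : D3 M24) {S : Type u} [Group S] (h : Spor.IsoM S) : Row S := by
  obtain ⟨e⟩ := id h
  have := Cfsg.Agent.H848.MonsterSetup.finite
  have : Finite S := Finite.of_equiv _ e.symm.toEquiv
  exact row_of_inner (.inl ⟨Cfsg.Agent.H740.K4.M.good5_m h, d3_of_equiv e (d3_monster (d3_co1 h24))⟩)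
    (isInn_of_out e Cfsg.Agent.S2085.result)

end Cfsg.Agent.H569.K547
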