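import Cfsg.Agent.H569.K547.M
import Cfsg.Agent.H569.K547.M24

/-!
# S4547, row `M` (helper569)
-/

set_option autoImplicit false

namespace Cfsg.Agent.H569.K547

open Cfsg Cfsg.Agent.H821.K547

universe u

theorem d3_co1' : D3 Spor.Co1 := d3_co1 d3_m24

theorem d3_m : D3 Spor.Monster := d3_monster d3_co1'

/-- **S4547, row `M`** -/
theorem row_m {S : Type u} [Group S] (h : Spor.IsoM S) : Row S := row_m_of d3_m24 h

end Cfsg.Agent.H569.K547
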